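import Groth.Agent.Lib.LinTop.Group
import Mathlib.Topology.Algebra.GroupCompletion
import Mathlib.Topology.Algebra.LinearTopology
import Mathlib.Topology.Algebra.Group.Quotient

/-! Completions of groups with a basis of open subgroups. -/

namespace GrothLib.LinTop

open Filter Topology UniformSpace

universe u v

variable {M : Type u} [AddCommGroup M] [UniformSpace M] [IsUniformAddGroup M]

/-- The closure of the image of a subgroup in the completion. -/
noncomputable def cl (U : AddSubgroup M) : AddSubgroup (Completion M) :=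
  (U.map (Completion.toCompl : M →+ Completion M)).topologicalClosure

theorem mem_cl_iff (U : AddSubgroup M) (x : Completion M) :
    x ∈ cl U ↔ x ∈ closure (((↑) : M → Completion M) '' (U : Set M)) := Iff.rfl

theorem coe_mem_cl {U : AddSubgroup M} {y : M} (hy : y ∈ U) : (y : Completion M) ∈ cl U :=
  (mem_cl_iff U _).2 (subset_closure ⟨y, hy, rfl⟩)

theorem cl_mem_nhds {U : AddSubgroup M} (hU : IsOpen (U : Set M)) :
    (cl U : Set (Completion M)) ∈ 𝓝 (0 : Completion M) := by
  have := (Completion.isDenseInducing_coe (α := M)).closure_image_mem_nhds (hU.mem_nhds (zero_mem U))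
  exact this

theorem isClosed_cl (U : AddSubgroup M) : IsClosed (cl U : Set (Completion M)) :=
  AddSubgroup.isClosed_topologicalClosure _

theorem exists_cl_subset (hb : ∀ U ∈ 𝓝 (0 : M), ∃ K : AddSubgroup M, IsOpen (K : Set M) ∧ (K : Set M) ⊆ U)
    {V : Set (Completion M)} (hV : V ∈ 𝓝 (0 : Completion M)) :
    ∃ K : AddSubgroup M, IsOpen (K : Set M) ∧ (cl K : Set (Completion M)) ⊆ V := by
  obtain ⟨V', hV', hc, hV'V⟩ := exists_mem_nhds_isClosed_subset hV
  obtain ⟨K, hK, hKV⟩ := hb _ ((Completion.continuous_coe M).continuousAt.preimage_mem_nhds hV')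
  exact ⟨K, hK, (closure_minimal (Set.image_subset_iff.2 hKV) hc).trans hV'V⟩

theorem exists_sub_mem_cl {U : AddSubgroup M} (hU : IsOpen (U : Set M)) (x : Completion M) :
    ∃ y : M, x - (y : Completion M) ∈ cl U := by
  obtain ⟨s, ⟨y, rfl⟩, hs⟩ := exists_add_of_mem_closure (cl_mem_nhds hU) (Completion.denseRange_coe x)
  exact ⟨y, hs⟩

variable {Q : Type v} [AddCommGroup Q] [UniformSpace Q] [IsUniformAddGroup Q] (π : M →+ Q)

theorem completionMap_preimage_zero (hc : Continuous π) (N : AddSubgroup M) (hN : ∀ x, π x = 0 ↔ x ∈ N)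
    (ho : IsOpenMap π)
    (hb : ∀ U ∈ 𝓝 (0 : M), ∃ K : AddSubgroup M, IsOpen (K : Set M) ∧ (K : Set M) ⊆ U) :
    (Completion.map π) ⁻¹' {0} =
      closure (Set.range fun n : N => ((n : M) : Completion M)) := by
  let F := π.completion hc
  have hF : ∀ y : M, F (y : Completion M) = ((π y : Q) : Completion (Q)) :=
    fun y => AddMonoidHom.completion_coe _ hc y
  have hFc : Continuous F := AddMonoidHom.continuous_completion _ hc
  refine subset_antisymm (fun x hx => mem_closure_of_forall fun V hV => ?_) ?_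
  · obtain ⟨K, hK, hKV⟩ := exists_cl_subset hb hV
    obtain ⟨y, hy⟩ := exists_sub_mem_cl hK x
    have h1 : F (x - (y : Completion M)) ∈
        closure (((↑) : Q → Completion (Q)) '' (π '' (K : Set M))) := by
      refine map_mem_closure hFc ((mem_cl_iff K _).1 hy) ?_
      rintro _ ⟨k, hk, rfl⟩
      exact ⟨_, ⟨k, hk, rfl⟩, (hF k).symm⟩
    have hx0 : F x = 0 := hx
    rw [map_sub, hx0, zero_sub, hF, ← Completion.coe_neg] at h1
    have h2 : -(π y) ∈ closure (π '' (K : Set M)) := by
      rw [(Completion.isUniformInducing_coe (Q)).isInducing.closure_eq_preimage_closure_image]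
      exact h1
    have h3 : IsClosed (π '' (K : Set M)) :=
      AddSubgroup.isClosed_of_isOpen (K.map π) (ho _ hK)
    rw [h3.closure_eq] at h2
    obtain ⟨k, hk, hky⟩ := h2
    have hn : k + y ∈ N := by
      rw [← hN]
      rw [map_add, hky, neg_add_cancel]
    refine ⟨_, ⟨⟨k + y, hn⟩, rfl⟩, hKV ?_⟩
    show x - ((k + y : M) : Completion M) ∈ cl K
    rw [Completion.coe_add, sub_add_eq_sub_sub_swap]
    exact sub_mem hy (coe_mem_cl hk)
  · refine closure_minimal ?_ (isClosed_singleton.preimage Completion.continuous_map)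
    rintro _ ⟨n, rfl⟩
    show F ((n : M) : Completion M) = 0
    rw [hF, show π (n : M) = 0 from (hN _).2 n.2]
    rfl

theorem completionMap_surjective_and_isOpenMap (hc : Continuous π) (hs : Function.Surjective π)
    (ho : IsOpenMap π)
    (hb : ∀ U ∈ 𝓝 (0 : M), ∃ K : AddSubgroup M, IsOpen (K : Set M) ∧ (K : Set M) ⊆ U)
    (hcnt : (𝓝 (0 : M)).IsCountablyGenerated) :
    Function.Surjective (Completion.map π) ∧
      IsOpenMap (Completion.map π) := by
  have := hcnt
  obtain ⟨S, hS⟩ := Filter.exists_antitone_basis (𝓝 (0 : M))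
  choose K hK hKS using fun n => hb _ (hS.1.mem_of_mem (i := n) trivial)
  let U : ℕ → AddSubgroup M := fun n => (Finset.range (n + 1)).inf K
  have hUa : Antitone U := fun i j h =>
    Finset.inf_mono (Finset.range_subset_range.2 (by omega))
  have hUo : ∀ n, IsOpen ((U n : AddSubgroup M) : Set M) := fun n => by
    show IsOpen (((Finset.range (n + 1)).inf K : AddSubgroup M) : Set M)
    induction n with
    | zero => simpa using hK 0
    | succ n ih =>
      rw [Finset.range_add_one, Finset.inf_insert, AddSubgroup.coe_inf]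
      exact (hK (n + 1)).inter ih
  have hUb : ∀ V ∈ 𝓝 (0 : M), ∃ n, ((U n : AddSubgroup M) : Set M) ⊆ V := fun V hV => by
    obtain ⟨n, -, hn⟩ := hS.1.mem_iff.1 hV
    exact ⟨n, fun x hx => hn (hKS n (Finset.inf_le (f := K) (Finset.self_mem_range_succ n) hx))⟩
  let F := π.completion hc
  have hF : ∀ y : M, F (y : Completion M) = ((π y : Q) : Completion (Q)) :=
    fun y => AddMonoidHom.completion_coe _ hc y
  have hFc : Continuous F := AddMonoidHom.continuous_completion _ hc
  let W : ℕ → AddSubgroup (Completion M) := fun k => cl (U k)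
  have hWa : Antitone W := fun i j h x hx =>
    closure_mono (Set.image_mono fun y hy => hUa h hy) hx
  have hWb : ∀ V ∈ 𝓝 (0 : Completion M), ∃ k, (W k : Set (Completion M)) ⊆ V := fun V hV => by
    obtain ⟨P, hP, hPV⟩ := exists_cl_subset hb hV
    obtain ⟨k, hk⟩ := hUb _ (hP.mem_nhds (zero_mem P))
    exact ⟨k, fun x hx => hPV (closure_mono (Set.image_mono hk) hx)⟩
  let V : ℕ → Set (Completion (Q)) := fun k => closure (F '' (W k : Set (Completion M)))
  have hVn : ∀ k, V k ∈ 𝓝 (0 : Completion (Q)) := fun k => by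
    have h1 := (Completion.isDenseInducing_coe (α := Q)).closure_image_mem_nhds
      ((ho _ (hUo k)).mem_nhds ⟨0, zero_mem _, map_zero _⟩)
    refine Filter.mem_of_superset h1 (closure_mono ?_)
    rintro _ ⟨_, ⟨y, hy, rfl⟩, rfl⟩
    exact ⟨(y : Completion M), coe_mem_cl hy, hF y⟩
  have hV : ∀ V' ∈ 𝓝 (0 : Completion (Q)), ∃ k, ∀ j, k ≤ j → V j ⊆ V' := fun V' hV' => by
    obtain ⟨C, hC, hCc, hCV⟩ := exists_mem_nhds_isClosed_subset hV'
    obtain ⟨k, hk⟩ := hWb _ (hFc.continuousAt.preimage_mem_nhds (by rwa [map_zero]))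
    exact ⟨k, fun j hj => (closure_minimal (Set.image_subset_iff.2 fun x hx => hk (hWa hj hx)) hCc).trans hCV⟩
  have hpre : ∀ k y, y ∈ V k → ∃ a ∈ W k, F a = y := fun k y hy =>
    exists_preimage_of_dense_images F hFc W (fun j => isClosed_cl _) hWa hWb V hV
      (fun j z hz => by
        obtain ⟨s, ⟨a, ha, rfl⟩, hs⟩ := exists_add_of_mem_closure (hVn (j + 1)) hz
        exact ⟨a, ha, hs⟩) k hy
  refine ⟨fun b => ?_, IsOpenMap.of_nhds_le fun x s hs => ?_⟩
  · obtain ⟨q, ⟨q', rfl⟩, hq⟩ := exists_add_of_mem_closure (hVn 0) (Completion.denseRange_coe b)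
    obtain ⟨y, rfl⟩ := hs q'
    obtain ⟨a, -, ha⟩ := hpre 0 _ hq
    refine ⟨a + (y : Completion M), ?_⟩
    show F _ = b
    rw [map_add, ha, hF]
    exact sub_add_cancel _ _
  · rw [Filter.mem_map] at hs
    replace hs : ⇑F ⁻¹' s ∈ 𝓝 x := hs
    obtain ⟨k, hk⟩ := hWb ((fun y => x + y) ⁻¹' (F ⁻¹' s))
      ((continuous_const.add continuous_id).continuousAt.preimage_mem_nhds (by simpa using hs))
    show s ∈ 𝓝 (F x)
    refine Filter.mem_of_superset ((continuous_id.sub continuous_const).continuousAt.preimage_mem_nhds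
      (show V k ∈ 𝓝 (id (F x) - F x) by simpa using hVn k)) fun y hy => ?_
    obtain ⟨a, ha, hay⟩ := hpre k _ hy
    have := hk ha
    simp only [Set.mem_preimage, map_add, hay] at this
    simpa using this

end GrothLib.LinTop
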