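import Groth.Agent.Lib.LinTop.Ring
import Mathlib.Topology.Algebra.UniformRing

/-! Dense homomorphisms and completions of linearly topologized rings. -/

namespace GrothLib.LinTop

open Filter Topology

universe u v

/-- With dense image, the closure of an image of an ideal is the closed ideal it generates. -/
theorem closure_image_eq {A : Type u} [CommRing A] {B : Type v} [CommRing B] [TopologicalSpace B]
    [IsTopologicalRing B] (φ : A →+* B) (hd : DenseRange φ) (I : Ideal A) :
    closure (φ '' (I : Set A)) = closure ((I.map φ : Ideal B) : Set B) := by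
  refine subset_antisymm (_root_.closure_mono ?_) (closure_minimal ?_ isClosed_closure)
  · rintro _ ⟨a, ha, rfl⟩
    exact Ideal.mem_map_of_mem φ ha
  have h1 : ∀ (b : B), ∀ s ∈ φ '' (I : Set A), b * s ∈ closure (φ '' (I : Set A)) := by
    rintro b _ ⟨a, ha, rfl⟩
    refine map_mem_closure (f := fun z => z * φ a) (continuous_mul_const (φ a)) (hd b) ?_
    rintro _ ⟨c, rfl⟩
    exact ⟨c * a, I.mul_mem_left c ha, map_mul φ c a⟩
  let S : AddSubgroup B := (I.toAddSubgroup.map φ.toAddMonoidHom).topologicalClosure
  have hS : ∀ x, x ∈ S ↔ x ∈ closure (φ '' (I : Set A)) := fun x => Iff.rfl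
  intro x hx
  rw [← hS]
  refine Submodule.span_induction (fun y hy => (hS y).2 (subset_closure hy)) S.zero_mem
    (fun y z _ _ hy hz => S.add_mem hy hz) (fun b y _ hy => ?_) hx
  rw [smul_eq_mul]
  have h2 := map_mem_closure (continuous_const_mul b) ((hS y).1 hy) (fun s hs => h1 b s hs)
  rw [closure_closure] at h2
  exact (hS _).2 h2

theorem exists_antitone_open_ideal {A : Type u} [CommRing A] [TopologicalSpace A] [IsTopologicalRing A]
    [IsLinearTopology A A] (hA : (𝓝 (0 : A)).IsCountablyGenerated) :
    ∃ W : ℕ → Ideal A, Antitone W ∧ (∀ n, IsOpen (W n : Set A)) ∧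
      ∀ U ∈ 𝓝 (0 : A), ∃ n, (W n : Set A) ⊆ U := by
  have := hA
  obtain ⟨S, hS⟩ := Filter.exists_antitone_basis (𝓝 (0 : A))
  choose K hK hKS using fun n => exists_open_ideal (hS.1.mem_of_mem (i := n) trivial)
  let W : ℕ → Ideal A := fun n => Nat.rec (K 0) (fun n P => P ⊓ K (n + 1)) n
  refine ⟨W, antitone_nat_of_succ_le fun n => inf_le_left, fun n => ?_, fun U hU => ?_⟩
  · induction n with
    | zero => exact hK 0
    | succ n ih => exact ih.inter (hK (n + 1))
  · obtain ⟨n, -, hn⟩ := hS.1.mem_iff.1 hU
    refine ⟨n + 1, fun x hx => hn (hS.2 (Nat.le_succ n) (hKS (n + 1) hx.2))⟩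

section Completion

variable (A : Type u) [CommRing A] [UniformSpace A] [IsUniformAddGroup A] [IsTopologicalRing A]
  [IsLinearTopology A A]

omit [IsLinearTopology A A] in
theorem denseRange_coeRingHom :
    DenseRange (UniformSpace.Completion.coeRingHom : A →+* UniformSpace.Completion A) :=
  UniformSpace.Completion.denseRange_coe

theorem isOpen_closure_map_coe {I : Ideal A} (hI : IsOpen (I : Set A)) :
    IsOpen (closure ((I.map (UniformSpace.Completion.coeRingHom :
      A →+* UniformSpace.Completion A) : Ideal _) : Set (UniformSpace.Completion A))) := by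
  rw [← closure_image_eq _ (denseRange_coeRingHom A) I]
  have h1 : closure (UniformSpace.Completion.coeRingHom '' (I : Set A)) ∈
      𝓝 ((UniformSpace.Completion.coeRingHom : A →+* UniformSpace.Completion A) 0) :=
    (UniformSpace.Completion.isDenseInducing_coe).closure_image_mem_nhds (hI.mem_nhds (zero_mem I))
  rw [map_zero] at h1
  exact AddSubgroup.isOpen_of_mem_nhds
    ((I.toAddSubgroup.map (UniformSpace.Completion.coeRingHom :
      A →+* UniformSpace.Completion A).toAddMonoidHom).topologicalClosure) h1

theorem exists_closure_map_coe_subset {U : Set (UniformSpace.Completion A)}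
    (hU : U ∈ 𝓝 (0 : UniformSpace.Completion A)) :
    ∃ I : Ideal A, IsOpen (I : Set A) ∧ closure ((I.map (UniformSpace.Completion.coeRingHom :
      A →+* UniformSpace.Completion A) : Ideal _) : Set (UniformSpace.Completion A)) ⊆ U := by
  obtain ⟨V, hV, hVc, hVU⟩ := exists_mem_nhds_isClosed_subset hU
  have h1 : (UniformSpace.Completion.coeRingHom : A →+* UniformSpace.Completion A) ⁻¹' V ∈ 𝓝 (0 : A) :=
    UniformSpace.Completion.continuous_coeRingHom.continuousAt.preimage_mem_nhds (by rwa [map_zero])
  obtain ⟨I, hI, hIV⟩ := exists_open_ideal h1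
  refine ⟨I, hI, ?_⟩
  rw [← closure_image_eq _ (denseRange_coeRingHom A) I]
  exact (closure_minimal (Set.image_subset_iff.2 hIV) hVc).trans hVU

theorem isLinearTopology_completion :
    IsLinearTopology (UniformSpace.Completion A) (UniformSpace.Completion A) := by
  refine IsLinearTopology.mk_of_hasBasis _ (S := Ideal (UniformSpace.Completion A))
    (ι := {I : Ideal A // IsOpen (I : Set A)}) (p := fun _ => True)
    (s := fun I => (I.1.map UniformSpace.Completion.coeRingHom).closure) ⟨fun U => ⟨fun hU => ?_, ?_⟩⟩
  · obtain ⟨I, hI, h⟩ := exists_closure_map_coe_subset A hU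
    exact ⟨⟨I, hI⟩, trivial, h⟩
  · rintro ⟨⟨I, hI⟩, -, h⟩
    exact Filter.mem_of_superset ((isOpen_closure_map_coe A hI).mem_nhds (subset_closure (zero_mem _))) h

end Completion

end GrothLib.LinTop
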