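import Groth.Agent.Lib.LinTop.Ring
import Groth.Prelude.Def_W4stk3formalspacesTaut

/-! Powers of ideals in taut faithfully flat situations. -/

namespace GrothLib.LinTop

universe u v

section

variable {A : Type u} [CommRing A] [TopologicalSpace A] [IsTopologicalRing A]
  {B : Type v} [CommRing B] [TopologicalSpace B] [IsTopologicalRing B]
  {φ : A →+* B}

omit [IsTopologicalRing A] in
theorem comap_closure_map_le (hφ : LinTop.IsTautFFlat φ) {I : Ideal A} (hI : IsOpen (I : Set A)) :
    (I.map φ).closure.comap φ ≤ I := by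
  intro x hx
  rw [← Ideal.Quotient.eq_zero_iff_mem]
  refine (hφ.2 I hI).injective ?_
  rw [map_zero]
  exact Ideal.Quotient.eq_zero_iff_mem.2 hx

/-- An ideal contained in the closure of `φ(F)B` up to a power pulls back inside the closure of a
power of `F`. -/
theorem isOpen_closure_pow_of_map [IsLinearTopology A A] [IsLinearTopology B B]
    (hφ : LinTop.IsTautFFlat φ) {J : Ideal B} (hJ : IsAdic J) {F : Ideal A} {a : ℕ}
    (ha : J ^ a ≤ (F.map φ).closure) (n : ℕ) :
    IsOpen (closure ((F ^ n : Ideal A) : Set A)) := by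
  refine isOpen_of_le (J := (F ^ n).closure) (I := (J ^ (a * n)).comap φ)
    (((isAdic_iff.1 hJ).1 _).preimage hφ.1.1) fun x hx => ?_
  refine mem_closure_of_forall_open fun U hU => ?_
  refine comap_closure_map_le hφ (isOpen_of_le hU le_sup_right) ?_
  have h1 : J ^ (a * n) ≤ ((F ^ n).map φ).closure := by
    rw [pow_mul, Ideal.map_pow]
    exact (Ideal.pow_right_mono ha n).trans (closure_pow_le _ n)
  exact closure_mono (Ideal.map_mono le_sup_left) (h1 hx)

theorem isOpen_closure_pow_comap [IsLinearTopology A A] [IsLinearTopology B B]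
    (hφ : LinTop.IsTautFFlat φ) {K : Ideal B} (hK : LinTop.IsIdealOfDefinition B K)
    (hopen : ∀ n : ℕ, 0 < n → IsOpen (closure ((K ^ n : Ideal B) : Set B))) (n : ℕ) :
    IsOpen (closure (((K.comap φ) ^ n : Ideal A) : Set A)) := by
  rcases Nat.eq_zero_or_pos n with rfl | hn
  · simp
  obtain ⟨a, ha0, ha⟩ := exists_pow_le hK (K := ((K.comap φ).map φ).closure)
    (hφ.1.2.1 (K.comap φ) (hK.1.preimage hφ.1.1))
  refine isOpen_of_le (J := ((K.comap φ) ^ n).closure) (I := ((K ^ (a * n)).closure).comap φ)
    ((hopen _ (Nat.mul_pos ha0 hn)).preimage hφ.1.1) fun x hx => ?_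
  refine mem_closure_of_forall_open fun U hU => ?_
  refine comap_closure_map_le hφ (isOpen_of_le hU le_sup_right) ?_
  have h1 : (K ^ (a * n)).closure ≤ (((K.comap φ) ^ n).map φ).closure := by
    refine closure_le ?_ isClosed_closure
    rw [pow_mul, Ideal.map_pow]
    exact (Ideal.pow_right_mono ha n).trans (closure_pow_le _ n)
  exact closure_mono (Ideal.map_mono le_sup_left) (h1 hx)

end

/-- If `I ≤ J + closure (I²)` with `J ≤ I` then the powers of `J` have open closures. -/
theorem isOpen_closure_pow {A : Type u} [CommRing A] [TopologicalSpace A] [IsTopologicalRing A]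
    [IsLinearTopology A A] {I J : Ideal A} (hI : LinTop.IsIdealOfDefinition A I)
    (hopen : ∀ n : ℕ, 0 < n → IsOpen (closure ((I ^ n : Ideal A) : Set A)))
    (hJI : J ≤ I) (hle : I ≤ J ⊔ (I ^ 2).closure) (n : ℕ) :
    IsOpen (closure ((J ^ n : Ideal A) : Set A)) := by
  rcases Nat.eq_zero_or_pos n with rfl | hn
  · simp
  -- `I ^ n ≤ J ^ n + closure (I ^ (n + 1))`
  have step : ∀ m, I ^ m ≤ J ^ m ⊔ (I ^ (m + 1)).closure := by
    intro m
    induction m with
    | zero => rw [pow_zero, pow_zero]; exact le_sup_left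
    | succ m ih =>
      calc I ^ (m + 1) = I ^ m * I := pow_succ I m
        _ ≤ (J ^ m ⊔ (I ^ (m + 1)).closure) * I := Ideal.mul_mono_left ih
        _ ≤ J ^ m * (J ⊔ (I ^ 2).closure) ⊔ (I ^ (m + 1 + 1)).closure := by
          rw [Ideal.sup_mul]
          refine sup_le_sup (Ideal.mul_mono_right hle) ?_
          rw [pow_succ I (m + 1)]
          exact (Ideal.mul_mono_right (le_closure I)).trans (closure_mul_le _ _)
        _ ≤ _ := by
          rw [Ideal.mul_sup, ← pow_succ, sup_assoc]
          refine sup_le_sup_left (sup_le ?_ le_rfl) _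
          refine le_trans ?_ (closure_mono (show I ^ m * I ^ 2 ≤ I ^ (m + 1 + 1) by rw [← pow_add]))
          refine le_trans (Ideal.mul_mono_left ?_) (closure_mul_le _ _)
          exact (Ideal.pow_right_mono hJI m).trans (le_closure _)
  have key : ∀ k, I ^ n ≤ J ^ n ⊔ (I ^ (n + k)).closure := by
    intro k
    induction k with
    | zero => exact (le_closure _).trans le_sup_right
    | succ k ih =>
      refine ih.trans (sup_le le_sup_left (closure_le_of_isOpen ((step (n + k)).trans ?_)
        (isOpen_of_le (hopen (n + (k + 1)) (by omega)) le_sup_right)))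
      exact sup_le_sup (Ideal.pow_le_pow_right (Nat.le_add_right n k)) le_rfl
  refine isOpen_of_le (J := (J ^ n).closure) (hopen n hn) (closure_le ?_ isClosed_closure)
  intro x hx
  refine mem_closure_of_forall_open fun U hU => ?_
  obtain ⟨m, -, hm⟩ := exists_pow_le hI hU
  exact sup_le_sup_left (closure_le_of_isOpen ((Ideal.pow_le_pow_right (Nat.le_add_left m n)).trans hm) hU) _
    (key m hx)

end GrothLib.LinTop
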