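import Mathlib.Topology.Algebra.IsUniformGroup.Basic
import Mathlib.Topology.Algebra.OpenSubgroup
import Mathlib.Topology.UniformSpace.Cauchy
import Mathlib.Algebra.Group.Pointwise.Set.Basic

/-! Topological abelian groups with a basis of open subgroups. -/

namespace GrothLib.LinTop

open Filter Topology

universe u v

/-- The closure of a set `S` is contained in every `S + U` with `U` a neighbourhood of `0`. -/
theorem exists_add_of_mem_closure {M : Type u} [AddCommGroup M] [TopologicalSpace M]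
    [IsTopologicalAddGroup M] {S U : Set M} (hU : U ∈ 𝓝 (0 : M)) {x : M} (hx : x ∈ closure S) :
    ∃ s ∈ S, x - s ∈ U := by
  have h : (fun y => x - y) ⁻¹' U ∈ 𝓝 x := by
    refine (continuous_const.sub continuous_id).continuousAt.preimage_mem_nhds ?_
    simpa using hU
  obtain ⟨s, hs, hsS⟩ := mem_closure_iff_nhds.1 hx _ h
  exact ⟨s, hsS, hs⟩

theorem mem_closure_of_forall {M : Type u} [AddCommGroup M] [TopologicalSpace M]
    [IsTopologicalAddGroup M] {S : Set M} {x : M}
    (h : ∀ U ∈ 𝓝 (0 : M), ∃ s ∈ S, x - s ∈ U) : x ∈ closure S := by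
  rw [mem_closure_iff_nhds]
  intro t ht
  obtain ⟨s, hs, hxs⟩ := h ((fun y => x - y) ⁻¹' t) (by
    refine (continuous_const.sub continuous_id).continuousAt.preimage_mem_nhds ?_
    simpa using ht)
  exact ⟨s, by simpa using hxs, hs⟩

/-- A sequence with increments eventually in each member of a basis of subgroups converges. -/
theorem exists_tendsto_of_sub_mem {M : Type u} [AddCommGroup M] [UniformSpace M]
    [IsUniformAddGroup M] [CompleteSpace M] (f : ℕ → M)
    (h : ∀ U ∈ 𝓝 (0 : M), ∃ K : AddSubgroup M, (K : Set M) ⊆ U ∧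
      ∃ N, ∀ n, N ≤ n → f (n + 1) - f n ∈ K) :
    ∃ x, Tendsto f atTop (𝓝 x) := by
  refine cauchySeq_tendsto_of_complete (cauchySeq_iff.2 fun V hV => ?_)
  rw [uniformity_eq_comap_nhds_zero M] at hV
  obtain ⟨U, hU, hUV⟩ := hV
  obtain ⟨K, hK, N, hN⟩ := h U hU
  have hgap : ∀ n, N ≤ n → f n - f N ∈ K := by
    intro n hn
    induction hn with
    | refl => simp
    | @step n hn ih =>
      have := add_mem (hN n hn) ih
      simpa using this
  refine ⟨N, fun a ha b hb => hUV (hK ?_)⟩
  have := sub_mem (hgap b hb) (hgap a ha)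
  simpa using this

/-- Successive approximation: if `W k` form a decreasing basis of open subgroups of the complete
group `M`, and their images are dense in `V k`, which shrink to `0` in the Hausdorff group `N`,
then `f` maps `W k` onto `V k`. -/
theorem exists_preimage_of_dense_images {M : Type u} [AddCommGroup M] [UniformSpace M]
    [IsUniformAddGroup M] [CompleteSpace M] {N : Type v} [AddCommGroup N] [TopologicalSpace N]
    [IsTopologicalAddGroup N] [T2Space N] (f : M →+ N) (hf : Continuous f)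
    (W : ℕ → AddSubgroup M) (hWc : ∀ k, IsClosed (W k : Set M)) (hWa : Antitone W)
    (hW : ∀ U ∈ 𝓝 (0 : M), ∃ k, (W k : Set M) ⊆ U)
    (V : ℕ → Set N) (hV : ∀ U ∈ 𝓝 (0 : N), ∃ k, ∀ j, k ≤ j → V j ⊆ U)
    (step : ∀ k, ∀ y ∈ V k, ∃ a ∈ W k, y - f a ∈ V (k + 1))
    (k : ℕ) {y : N} (hy : y ∈ V k) : ∃ a ∈ W k, f a = y := by
  choose c hc hcV using step
  let T : (j : ℕ) → {a : M // a ∈ W k ∧ y - f a ∈ V (k + j)} := fun j => Nat.rec
    ⟨0, zero_mem _, by simpa using hy⟩
    (fun j a => ⟨a.1 + c (k + j) _ a.2.2,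
      add_mem a.2.1 (hWa (Nat.le_add_right k j) (hc _ _ a.2.2)),
      by simpa [sub_add_eq_sub_sub, Nat.add_assoc] using hcV (k + j) _ a.2.2⟩) j
  obtain ⟨a, ha⟩ := exists_tendsto_of_sub_mem (fun j => (T j).1) fun U hU => by
    obtain ⟨p, hp⟩ := hW U hU
    refine ⟨W p, hp, p, fun j hj => ?_⟩
    show ((T j).1 + c (k + j) _ (T j).2.2) - (T j).1 ∈ W p
    rw [add_sub_cancel_left]
    exact hWa (by omega) (hc _ _ _)
  refine ⟨a, (hWc k).mem_of_tendsto ha (Filter.Eventually.of_forall fun j => (T j).2.1), ?_⟩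
  have h2 : Tendsto (fun j => y - f (T j).1) atTop (𝓝 0) := by
    intro U hU
    obtain ⟨p, hp⟩ := hV U hU
    exact Filter.mem_atTop_sets.2 ⟨p, fun j hj => hp (k + j) (by omega) (T j).2.2⟩
  exact (sub_eq_zero.1 (tendsto_nhds_unique (((hf.tendsto a).comp ha).const_sub y) h2)).symm

end GrothLib.LinTop
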