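import Groth.Agent.Lib.LinTop.Group
import Groth.Prelude.Def_LinTop
import Mathlib.Topology.Algebra.LinearTopology
import Mathlib.Topology.Algebra.TopologicallyNilpotent
import Mathlib.Topology.Algebra.Ring.Ideal
import Mathlib.RingTheory.Finiteness.Ideal
import Mathlib.RingTheory.Jacobson.Ideal
import Mathlib.Tactic.LinearCombination
import Mathlib.Algebra.Ring.GeomSum

/-! Linearly topologized commutative rings. -/

namespace GrothLib.LinTop

open Filter Topology

universe u v

section Top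

variable {A : Type u} [CommRing A] [TopologicalSpace A] [IsTopologicalRing A]

theorem isOpen_of_le {I J : Ideal A} (hI : IsOpen (I : Set A)) (h : I ≤ J) : IsOpen (J : Set A) :=
  Submodule.isOpen_mono h hI

theorem exists_open_ideal [IsLinearTopology A A] {U : Set A} (hU : U ∈ 𝓝 (0 : A)) :
    ∃ K : Ideal A, IsOpen (K : Set A) ∧ (K : Set A) ⊆ U :=
  IsLinearTopology.hasBasis_open_ideal.mem_iff.1 hU

theorem isClosed_of_isOpen {K : Ideal A} (hK : IsOpen (K : Set A)) : IsClosed (K : Set A) :=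
  AddSubgroup.isClosed_of_isOpen K.toAddSubgroup hK

theorem le_closure (I : Ideal A) : I ≤ I.closure := fun _ hx => subset_closure hx

theorem closure_le {I K : Ideal A} (h : I ≤ K) (hK : IsClosed (K : Set A)) : I.closure ≤ K :=
  fun _ hx => closure_minimal h hK hx

theorem closure_le_of_isOpen {I K : Ideal A} (h : I ≤ K) (hK : IsOpen (K : Set A)) : I.closure ≤ K :=
  closure_le h (isClosed_of_isOpen hK)

theorem closure_mono {I J : Ideal A} (h : I ≤ J) : I.closure ≤ J.closure :=
  fun _ hx => _root_.closure_mono (SetLike.coe_subset_coe.2 h) hx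

theorem closure_mul_le (I J : Ideal A) : I.closure * J.closure ≤ (I * J).closure :=
  Ideal.mul_le.2 fun _ hx _ hy =>
    map_mem_closure₂ continuous_mul hx hy fun _ ha _ hb => Ideal.mul_mem_mul ha hb

theorem closure_pow_le (I : Ideal A) (n : ℕ) : I.closure ^ n ≤ (I ^ n).closure := by
  induction n with
  | zero => rw [pow_zero, pow_zero]; exact le_closure _
  | succ n ih =>
    rw [pow_succ, pow_succ]
    exact (Ideal.mul_mono_left ih).trans (closure_mul_le _ _)

theorem isOpen_closure_of_le {I J : Ideal A} (hI : IsOpen (closure (I : Set A))) (h : I ≤ J) :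
    IsOpen (closure (J : Set A)) :=
  isOpen_of_le (I := I.closure) (J := J.closure) hI (closure_mono h)

theorem mem_closure_of_forall_open [IsLinearTopology A A] {I : Ideal A} {x : A}
    (h : ∀ K : Ideal A, IsOpen (K : Set A) → x ∈ I ⊔ K) : x ∈ I.closure := by
  refine mem_closure_of_forall fun U hU => ?_
  obtain ⟨K, hK, hKU⟩ := exists_open_ideal hU
  obtain ⟨a, ha, b, hb, rfl⟩ := Submodule.mem_sup.1 (h K hK)
  exact ⟨a, ha, by simpa using hKU hb⟩

theorem mem_sup_of_mem_closure {I K : Ideal A} (hK : IsOpen (K : Set A)) {x : A}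
    (hx : x ∈ I.closure) : x ∈ I ⊔ K :=
  closure_le_of_isOpen le_sup_left (isOpen_of_le hK le_sup_right) hx

theorem isTopologicallyNilpotent_of_forall [IsLinearTopology A A] {x : A}
    (h : ∀ K : Ideal A, IsOpen (K : Set A) → ∃ n, x ^ n ∈ K) : IsTopologicallyNilpotent x := by
  intro U hU
  obtain ⟨K, hK, hKU⟩ := exists_open_ideal hU
  obtain ⟨n, hn⟩ := h K hK
  refine Filter.mem_atTop_sets.2 ⟨n, fun m hm => hKU ?_⟩
  show x ^ m ∈ K
  rw [← Nat.add_sub_cancel' hm, pow_add]
  exact K.mul_mem_right _ hn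

omit [IsTopologicalRing A] in
theorem exists_pow_mem {x : A} (hx : IsTopologicallyNilpotent x) {K : Ideal A}
    (hK : IsOpen (K : Set A)) : ∃ n, x ^ n ∈ K :=
  hx.exists_pow_mem_of_mem_nhds (hK.mem_nhds (zero_mem K))

omit [IsTopologicalRing A] in
theorem exists_pow_le {I K : Ideal A} (hI : LinTop.IsIdealOfDefinition A I)
    (hK : IsOpen (K : Set A)) : ∃ n, 0 < n ∧ I ^ n ≤ K := by
  obtain ⟨n, hn, h⟩ := hI.2 _ (hK.mem_nhds (zero_mem K))
  exact ⟨n, hn, h⟩

theorem isTopologicallyNilpotent_of_mem [IsLinearTopology A A] {I : Ideal A}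
    (hI : LinTop.IsIdealOfDefinition A I) {x : A} (hx : x ∈ I) : IsTopologicallyNilpotent x :=
  isTopologicallyNilpotent_of_forall fun _ hK => by
    obtain ⟨n, -, hn⟩ := exists_pow_le hI hK
    exact ⟨n, hn (Ideal.pow_mem_pow hx n)⟩

omit [IsTopologicalRing A] in
theorem isIdealOfDefinition_of_open_ideals [IsTopologicalRing A] [IsLinearTopology A A] {I : Ideal A}
    (h1 : IsOpen (I : Set A)) (h2 : ∀ K : Ideal A, IsOpen (K : Set A) → ∃ n, I ^ n ≤ K) :
    LinTop.IsIdealOfDefinition A I := by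
  refine ⟨h1, fun U hU => ?_⟩
  obtain ⟨K, hK, hKU⟩ := exists_open_ideal hU
  obtain ⟨n, hn⟩ := h2 K hK
  exact ⟨n + 1, n.succ_pos, fun x hx => hKU (hn (Ideal.pow_le_pow_right n.le_succ hx))⟩

end Top

section Complete

variable {A : Type u} [CommRing A] [UniformSpace A] [IsUniformAddGroup A] [IsTopologicalRing A]
  [IsLinearTopology A A] [CompleteSpace A]

theorem exists_tendsto (f : ℕ → A)
    (h : ∀ K : Ideal A, IsOpen (K : Set A) → ∃ N, ∀ n, N ≤ n → f (n + 1) - f n ∈ K) :
    ∃ x, Tendsto f atTop (𝓝 x) :=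
  exists_tendsto_of_sub_mem f fun _ hU => by
    obtain ⟨K, hK, hKU⟩ := exists_open_ideal hU
    exact ⟨K.toAddSubgroup, hKU, h K hK⟩

variable [T2Space A]

theorem isUnit_one_add {x : A} (hx : IsTopologicallyNilpotent x) : IsUnit (1 + x) := by
  obtain ⟨s, hs⟩ := exists_tendsto (fun n => ∑ i ∈ Finset.range n, (-x) ^ i) fun K hK => by
    obtain ⟨n, hn⟩ := exists_pow_mem hx hK
    refine ⟨n, fun m hm => ?_⟩
    rw [Finset.sum_range_succ, add_sub_cancel_left, ← Nat.add_sub_cancel' hm, pow_add]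
    refine K.mul_mem_right _ ?_
    rw [neg_pow]
    exact K.mul_mem_left _ hn
  have h1 : Tendsto (fun n => (1 + x) * ∑ i ∈ Finset.range n, (-x) ^ i) atTop (𝓝 ((1 + x) * s)) :=
    hs.const_mul _
  have h2 : Tendsto (fun n => (1 + x) * ∑ i ∈ Finset.range n, (-x) ^ i) atTop (𝓝 1) := by
    have e : ∀ n, (1 + x) * ∑ i ∈ Finset.range n, (-x) ^ i = 1 - (-x) ^ n := fun n => by
      linear_combination -(mul_geom_sum (-x) n)
    simp only [e]
    have h3 : IsTopologicallyNilpotent (-x) := isTopologicallyNilpotent_of_forall fun K hK => by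
      obtain ⟨n, hn⟩ := exists_pow_mem hx hK
      exact ⟨n, by rw [neg_pow]; exact K.mul_mem_left _ hn⟩
    simpa using h3.const_sub (1 : A)
  exact IsUnit.of_mul_eq_one s (tendsto_nhds_unique h1 h2)

theorem le_jacobson {I : Ideal A} (hI : ∀ x ∈ I, IsTopologicallyNilpotent x) :
    I ≤ (⊥ : Ideal A).jacobson := fun x hx => Ideal.mem_jacobson_bot.2 fun y => by
  rw [add_comm]
  exact isUnit_one_add (hI _ (I.mul_mem_right y hx))

/-- Successive approximation against finitely many generators. -/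
theorem mem_span_of_step {ι : Type v} [Fintype ι] (g : ι → A) (H : ℕ → Ideal A)
    (hH : ∀ K : Ideal A, IsOpen (K : Set A) → ∃ k, ∀ j, k ≤ j → H j ≤ K)
    (C : ℕ → Ideal A) (hC : ∀ K : Ideal A, IsOpen (K : Set A) → ∃ k, ∀ j, k ≤ j → C j ≤ K)
    (step : ∀ k, ∀ y ∈ H k, ∃ c : ι → A, (∀ i, c i ∈ C k) ∧ y - ∑ i, c i * g i ∈ H (k + 1))
    {y : A} (hy : y ∈ H 0) : y ∈ Ideal.span (Set.range g) := by
  choose c hc hcH using step
  let T : (j : ℕ) → {a : ι → A // y - ∑ i, a i * g i ∈ H j} := fun j => Nat.rec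
    ⟨0, by simpa using hy⟩
    (fun j a => ⟨a.1 + c j _ a.2, by
      simpa [add_mul, Finset.sum_add_distrib, sub_add_eq_sub_sub] using hcH j _ a.2⟩) j
  choose L hL using fun i => exists_tendsto (fun j => (T j).1 i) fun K hK => by
    obtain ⟨k, hk⟩ := hC K hK
    refine ⟨k, fun j hj => hk j hj ?_⟩
    show ((T j).1 + c j _ (T j).2) i - (T j).1 i ∈ C j
    rw [Pi.add_apply, add_sub_cancel_left]
    exact hc _ _ _ i
  have h1 : Tendsto (fun j => y - ∑ i, (T j).1 i * g i) atTop (𝓝 (y - ∑ i, L i * g i)) :=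
    (tendsto_finsetSum _ fun i _ => (hL i).mul_const _).const_sub _
  have h2 : Tendsto (fun j => y - ∑ i, (T j).1 i * g i) atTop (𝓝 0) := by
    intro U hU
    obtain ⟨K, hK, hKU⟩ := exists_open_ideal hU
    obtain ⟨k, hk⟩ := hH K hK
    exact Filter.mem_atTop_sets.2 ⟨k, fun j hj => hKU (hk j hj (T j).2)⟩
  rw [sub_eq_zero.1 (tendsto_nhds_unique h1 h2)]
  exact sum_mem fun i _ => Ideal.mul_mem_left _ _ (Ideal.subset_span ⟨i, rfl⟩)

/-- A finitely generated ideal whose powers have open closures forming a basis of neighbourhoods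
defines the topology. -/
theorem isAdic_of_closure_pow {I : Ideal A} (hfg : I.FG)
    (hopen : ∀ n : ℕ, IsOpen (closure ((I ^ n : Ideal A) : Set A)))
    (hbasis : ∀ U ∈ 𝓝 (0 : A), ∃ n : ℕ, closure ((I ^ n : Ideal A) : Set A) ⊆ U) : IsAdic I := by
  classical
  have hsmall : ∀ K : Ideal A, IsOpen (K : Set A) → ∀ m, ∃ k, ∀ j, k ≤ j →
      (I ^ (m + j)).closure ≤ K ∧ I ^ j ≤ K := by
    intro K hK m
    obtain ⟨k, hk⟩ := hbasis _ (hK.mem_nhds (zero_mem K))
    have hk' : (I ^ k).closure ≤ K := hk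
    exact ⟨k, fun j hj => ⟨(closure_mono (Ideal.pow_le_pow_right (by omega))).trans hk',
      (Ideal.pow_le_pow_right hj).trans ((le_closure _).trans hk')⟩⟩
  have heq : ∀ n, (I ^ n).closure = I ^ n := by
    intro n
    refine le_antisymm (fun y hy => ?_) (le_closure _)
    obtain ⟨s, hs⟩ := (Ideal.FG.pow hfg : (I ^ n).FG)
    have hspan : Ideal.span (Set.range fun i : s => (i : A)) = I ^ n := by
      rw [Subtype.range_coe_subtype, Finset.setOfPred_mem]; exact hs
    rw [← hspan]
    refine mem_span_of_step (fun i : s => (i : A)) (fun k => (I ^ (n + k)).closure) ?_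
      (fun k => I ^ k) ?_ ?_ (by simpa using hy)
    · intro K hK
      obtain ⟨k, hk⟩ := hsmall K hK n
      exact ⟨k, fun j hj => (hk j hj).1⟩
    · intro K hK
      obtain ⟨k, hk⟩ := hsmall K hK n
      exact ⟨k, fun j hj => (hk j hj).2⟩
    · intro k z hz
      obtain ⟨a, ha, b, hb, rfl⟩ := Submodule.mem_sup.1
        (mem_sup_of_mem_closure (K := (I ^ (n + (k + 1))).closure) (hopen _) hz)
      have h1 : a ∈ I ^ k • Submodule.span A (Set.range fun i : s => (i : A)) := by
        rw [show Submodule.span A (Set.range fun i : s => (i : A)) = I ^ n from hspan,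
          Ideal.smul_eq_mul, ← pow_add, add_comm]
        exact ha
      obtain ⟨c, hc, rfl⟩ := Submodule.mem_ideal_smul_span_iff_exists_sum .. |>.1 h1
      refine ⟨c, hc, ?_⟩
      rw [Finsupp.sum_fintype] <;> simp [hb]
  refine isAdic_iff.2 ⟨fun n => ?_, fun U hU => ?_⟩
  · rw [← heq n]; exact hopen n
  · obtain ⟨n, hn⟩ := hbasis U hU
    exact ⟨n, fun x hx => hn (subset_closure hx)⟩

end Complete

end GrothLib.LinTop
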